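import Mathlib

/-!
# Basic facts about completions along finitely generated ideals
-/

set_option autoImplicit false

universe u

namespace Groth.Agent.GabRig

variable {A : Type u} [CommRing A] (I : Ideal A) (hI : I.FG)

include hI in
theorem map_pow_eq_ker (M : ℕ) (z : AdicCompletion I A) :
    z ∈ (I ^ M).map (algebraMap A (AdicCompletion I A)) ↔ AdicCompletion.eval I A M z = 0 := by
  rw [← LinearMap.mem_ker, ← AdicCompletion.pow_smul_top_eq_ker_eval hI, Ideal.smul_top_eq_map,
    Submodule.restrictScalars_mem]

include hI in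
theorem compl_surj (M : ℕ) (b : AdicCompletion I A) :
    ∃ a, b - algebraMap A (AdicCompletion I A) a ∈ (I ^ M).map (algebraMap A (AdicCompletion I A)) := by
  obtain ⟨a, ha⟩ := Submodule.Quotient.mk_surjective _ (AdicCompletion.eval I A M b)
  refine ⟨a, (map_pow_eq_ker I hI M _).mpr ?_⟩
  rw [map_sub, sub_eq_zero, ← ha]
  rfl

include hI in
theorem compl_low (M : ℕ) :
    ((I ^ M).map (algebraMap A (AdicCompletion I A))).comap (algebraMap A (AdicCompletion I A)) ≤ I ^ M := by
  intro a ha
  have h := (map_pow_eq_ker I hI M _).mp (Ideal.mem_comap.mp ha)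
  have h' : Submodule.Quotient.mk (p := I ^ M • (⊤ : Submodule A A)) a = 0 := h
  rw [Submodule.Quotient.mk_eq_zero] at h'
  simpa using h'

include hI in
theorem compl_jacobson : I.map (algebraMap A (AdicCompletion I A)) ≤ Ideal.jacobson ⊥ := by
  haveI : IsAdicComplete I (AdicCompletion I A) := AdicCompletion.isAdicComplete hI
  haveI : IsAdicComplete (I.map (algebraMap A (AdicCompletion I A))) (AdicCompletion I A) :=
    (IsAdicComplete.map_algebraMap_iff _ _).2 inferInstance
  exact IsAdicComplete.le_jacobson_bot _

end Groth.Agent.GabRig
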