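import Groth.Agent.GabRig.Rees
import Mathlib

/-!
# Functoriality of the Rees blow-up and its special fibre
-/

set_option autoImplicit false
set_option linter.style.haveILetI false

universe u

open CategoryTheory AlgebraicGeometry Polynomial

noncomputable section

namespace Groth.Agent.GabRig

open Groth.Agent.BlowUpExist (mono mono_mem tt tt_mem eq_mono_of_mem coeff_mem structMap)

variable {A B : Type u} [CommRing A] [CommRing B] (φ : A →+* B) (K : Ideal A)

theorem map_mem_pow {n : ℕ} {c : A} (hc : c ∈ K ^ n) : φ c ∈ (K.map φ) ^ n :=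
  Ideal.map_pow φ K n ▸ Ideal.mem_map_of_mem φ hc

/-- The map of Rees algebras. -/
def reesMap : reesAlgebra K →+* reesAlgebra (K.map φ) :=
  ((Polynomial.mapRingHom φ).comp (reesAlgebra K).val.toRingHom).codRestrict (reesAlgebra (K.map φ))
    fun x => by
      refine (mem_reesAlgebra_iff _ _).mpr fun n => ?_
      simp only [RingHom.comp_apply, coe_mapRingHom, coeff_map]
      exact map_mem_pow φ K (x.2 n)

theorem coe_reesMap (x : reesAlgebra K) :
    (reesMap φ K x : B[X]) = (x : A[X]).map φ := rfl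

theorem reesMap_mono (n : ℕ) (c : A) (hc : c ∈ K ^ n) :
    reesMap φ K (mono K n c hc) = mono (K.map φ) n (φ c) (map_mem_pow φ K hc) :=
  Subtype.ext (Polynomial.map_monomial φ)

theorem reesMap_algebraMap (a : A) :
    reesMap φ K (algebraMap A (reesAlgebra K) a) = algebraMap B (reesAlgebra (K.map φ)) (φ a) :=
  Subtype.ext (Polynomial.map_C φ)

/-- The contraction of a point. -/
def pull (y : Pt (K.map φ)) : Pt K where
  asHomogeneousIdeal :=
    { toSubmodule := (ideal y).comap (reesMap φ K)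
      is_homogeneous' := isHomogeneous_of_mono fun x hx n => by
        rw [Ideal.mem_comap, mem_ideal_iff] at hx
        have := hx n
        rw [Ideal.mem_comap, reesMap_mono]
        convert this using 1
        exact mono_congr _ _ rfl (by rw [coe_reesMap, coeff_map]) }
  isPrime := Ideal.IsPrime.comap _
  not_irrelevant_le hle := by
    obtain ⟨b, hb, hby⟩ := not_forall_tt y
    refine hby ?_
    suffices H : ∃ hb : b ∈ K.map φ, tt (K.map φ) b hb ∈ ideal y from H.2
    refine Submodule.span_induction (p := fun x _ => ∃ hx : x ∈ K.map φ, tt (K.map φ) x hx ∈ ideal y)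
      ?_ ?_ ?_ ?_ hb
    · rintro _ ⟨a, ha, rfl⟩
      refine ⟨Ideal.mem_map_of_mem φ ha, ?_⟩
      have h1 := hle (HomogeneousIdeal.mem_irrelevant_of_mem (Rees.deg (reesAlgebra K)) (i := 1) one_pos (tt_mem K a ha))
      have h2 : reesMap φ K (tt K a ha) ∈ ideal y := h1
      rw [tt, reesMap_mono] at h2
      exact h2
    · exact ⟨zero_mem _, by convert zero_mem (ideal y); exact Subtype.ext (map_zero _)⟩
    · rintro x z - - ⟨hx, hx'⟩ ⟨hz, hz'⟩
      refine ⟨add_mem hx hz, ?_⟩
      convert add_mem hx' hz' using 1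
      exact Subtype.ext (map_add _ _ _)
    · rintro r x - ⟨hx, hx'⟩
      refine ⟨Ideal.mul_mem_left _ r hx, ?_⟩
      convert Ideal.mul_mem_left (ideal y) (algebraMap B (reesAlgebra (K.map φ)) r) hx' using 1
      rw [tt, tt, algebraMap_mul_mono]
      rfl

theorem mem_pull {y : Pt (K.map φ)} (x : reesAlgebra K) :
    x ∈ ideal (pull φ K y) ↔ reesMap φ K x ∈ ideal y := Iff.rfl

theorem structMap_pull (y : Pt (K.map φ)) :
    structMap K (pull φ K y) = PrimeSpectrum.comap φ (structMap (K.map φ) y) := by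
  refine PrimeSpectrum.ext (Ideal.ext fun a => ?_)
  rw [mem_base_iff, mem_pull, reesMap_algebraMap, ← mem_base_iff]
  rfl

theorem continuous_pull : Continuous (pull φ K) := by
  refine continuous_iff_isClosed.mpr fun s hs => ?_
  obtain ⟨t, rfl⟩ := (ProjectiveSpectrum.isClosed_iff_zeroLocus _ s).mp hs
  have : pull φ K ⁻¹' (ProjectiveSpectrum.zeroLocus (Rees.deg (reesAlgebra K)) t) =
      ProjectiveSpectrum.zeroLocus (Rees.deg (reesAlgebra (K.map φ))) (reesMap φ K '' t) := by
    ext y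
    exact ⟨fun h => by rintro _ ⟨x, hx, rfl⟩; exact h hx, fun h x hx => h ⟨x, hx, rfl⟩⟩
  rw [this]
  exact ProjectiveSpectrum.isClosed_zeroLocus _ _

variable {φ} {K} {J : Ideal A} (hlow : ∀ M, ((J ^ M).map φ).comap φ ≤ J ^ M)
  (hsurj : ∀ (M : ℕ) (b : B), ∃ a, b - φ a ∈ (J ^ M).map φ)

include hlow hsurj in
theorem comap_map {L : Ideal A} {M : ℕ} (hL : J ^ M ≤ L) : (L.map φ).comap φ = L := by
  refine le_antisymm (fun a ha => ?_) Ideal.le_comap_map
  suffices H : ∀ x ∈ L.map φ, ∃ l ∈ L, x - φ l ∈ (J ^ M).map φ by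
    obtain ⟨l, hl, h⟩ := H _ (Ideal.mem_comap.mp ha)
    rw [← map_sub] at h
    have := hL (hlow M (Ideal.mem_comap.mpr h))
    simpa using add_mem this hl
  intro x hx
  refine Submodule.span_induction ?_ ?_ ?_ ?_ hx
  · rintro _ ⟨l, hl, rfl⟩; exact ⟨l, hl, by simp⟩
  · exact ⟨0, zero_mem _, by simp⟩
  · rintro x z - - ⟨l, hl, h⟩ ⟨l', hl', h'⟩
    exact ⟨l + l', add_mem hl hl', by rw [map_add, add_sub_add_comm]; exact add_mem h h'⟩
  · rintro r x - ⟨l, hl, h⟩
    obtain ⟨a, ha⟩ := hsurj M r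
    refine ⟨a * l, Ideal.mul_mem_left _ a hl, ?_⟩
    rw [smul_eq_mul, map_mul, show r * x - φ a * φ l = r * (x - φ l) + (r - φ a) * φ l by ring]
    exact add_mem (Ideal.mul_mem_left _ r h) (Ideal.mul_mem_right _ _ ha)

include hlow hsurj in
theorem exists_sub_mem {L : Ideal A} {M : ℕ} (hL : J ^ M ≤ L) {b : B} (hb : b ∈ L.map φ) :
    ∃ a ∈ L, b - φ a ∈ (J ^ M).map φ := by
  obtain ⟨a, ha⟩ := hsurj M b
  refine ⟨a, ?_, ha⟩
  rw [← comap_map hlow hsurj hL, Ideal.mem_comap]
  simpa using sub_mem hb (Ideal.map_mono hL ha)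

omit hlow hsurj in
/-- The coefficients of the special ideal. -/
theorem coeff_mem_of_mem {J' : Ideal B} {K' : Ideal B} {x : reesAlgebra K'}
    (hx : x ∈ J'.map (algebraMap B (reesAlgebra K'))) (n : ℕ) : (x : B[X]).coeff n ∈ J' * K' ^ n := by
  refine Submodule.span_induction (p := fun (z : reesAlgebra K') _ => ∀ n, (z : B[X]).coeff n ∈ J' * K' ^ n)
    ?_ ?_ ?_ ?_ hx n
  · rintro _ ⟨j, hj, rfl⟩ n
    show (C j).coeff n ∈ _
    rw [coeff_C]
    split_ifs with h
    · subst h; simpa using hj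
    · exact zero_mem _
  · simp
  · intro x y _ _ hx hy n
    rw [Subalgebra.coe_add, coeff_add]
    exact add_mem (hx n) (hy n)
  · intro r z _ hz n
    rw [smul_eq_mul, Subalgebra.coe_mul, coeff_mul]
    refine sum_mem fun q hq => ?_
    rw [← Finset.HasAntidiagonal.mem_antidiagonal.mp hq, pow_add, mul_left_comm]
    exact Ideal.mul_mem_mul (r.2 q.1) (hz q.2)

omit hlow hsurj in
theorem mem_map_of_coeff {J' : Ideal B} {K' : Ideal B} (x : reesAlgebra K')
    (hx : ∀ n, (x : B[X]).coeff n ∈ J' * K' ^ n) : x ∈ J'.map (algebraMap B (reesAlgebra K')) := by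
  rw [← sum_mono x]
  refine sum_mem fun n _ => ?_
  suffices H : ∀ c ∈ J' * K' ^ n, ∃ hc : c ∈ K' ^ n, mono K' n c hc ∈ J'.map (algebraMap B (reesAlgebra K'))
    from (H _ (hx n)).2
  intro c hc
  refine Submodule.mul_induction_on hc (fun j hj k hk => ⟨Ideal.mul_mem_left _ j hk, ?_⟩) ?_
  · rw [← algebraMap_mul_mono j n k hk]
    exact Ideal.mul_mem_right _ _ (Ideal.mem_map_of_mem _ hj)
  · rintro b c ⟨hb, hb'⟩ ⟨hc, hc'⟩
    refine ⟨add_mem hb hc, ?_⟩
    convert add_mem hb' hc' using 1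
    exact Subtype.ext (map_add _ _ _)

variable {c : ℕ} (hJK : J ^ c ≤ K)

omit hlow hsurj in
include hJK in
theorem pow_le_mul (n : ℕ) : J ^ (c * n + 1) ≤ J * K ^ n := by
  rw [pow_succ', pow_mul]
  exact Ideal.mul_mono le_rfl (Ideal.pow_right_mono hJK n)

include hlow hsurj hJK in
theorem mem_special_of_reesMap {x : reesAlgebra K}
    (hx : reesMap φ K x ∈ (J.map φ).map (algebraMap B (reesAlgebra (K.map φ)))) :
    x ∈ J.map (algebraMap A (reesAlgebra K)) := by
  refine mem_map_of_coeff x fun n => ?_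
  have h := coeff_mem_of_mem hx n
  rw [coe_reesMap, coeff_map, ← Ideal.map_pow, ← Ideal.map_mul] at h
  rw [← comap_map hlow hsurj (pow_le_mul hJK n)]
  exact Ideal.mem_comap.mpr h

include hlow hsurj hJK in
theorem exists_sub_special (z : reesAlgebra (K.map φ)) :
    ∃ x, z - reesMap φ K x ∈ (J.map φ).map (algebraMap B (reesAlgebra (K.map φ))) := by
  have h : ∀ n, ∃ a ∈ K ^ n, (z : B[X]).coeff n - φ a ∈ (J ^ (c * n + 1)).map φ := fun n =>
    exists_sub_mem hlow hsurj ((pow_le_mul hJK n).trans Ideal.mul_le_right) (by rw [Ideal.map_pow]; exact z.2 n)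
  choose a ha ha' using h
  refine ⟨∑ n ∈ (z : B[X]).support, mono K n (a n) (ha n), mem_map_of_coeff _ fun n => ?_⟩
  have hz : ∑ n ∈ (z : B[X]).support, mono (K.map φ) n ((z : B[X]).coeff n) (coeff_mem _ n z) = z := sum_mono z
  classical
  rw [show ((z - reesMap φ K (∑ n ∈ (z : B[X]).support, mono K n (a n) (ha n)) : reesAlgebra (K.map φ)) : B[X]).coeff n =
    if n ∈ (z : B[X]).support then (z : B[X]).coeff n - φ (a n) else 0 from ?_]
  · split_ifs
    · have := Ideal.map_mono (f := φ) (pow_le_mul hJK n) (ha' n)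
      rwa [Ideal.map_mul, Ideal.map_pow] at this
    · exact zero_mem _
  · rw [AddSubgroupClass.coe_sub, coe_reesMap, coeff_sub, coeff_map, AddSubmonoidClass.coe_finsetSum, finsetSum_coeff]
    simp only [mono, coeff_monomial, Finset.sum_ite_eq']
    split_ifs with h
    · rfl
    · simp [Polynomial.notMem_support_iff.mp h]

include hlow hsurj hJK in
theorem exists_pull_eq (y : Pt K) (hy : J ≤ (structMap K y).asIdeal) :
    ∃ z : Pt (K.map φ), pull φ K z = y ∧ J.map φ ≤ (structMap (K.map φ) z).asIdeal := by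
  let g : Set (reesAlgebra (K.map φ)) :=
    (reesMap φ K '' {x | ∃ n, ∃ hn : (x : A[X]).coeff n ∈ K ^ n, x = mono K n ((x : A[X]).coeff n) hn ∧ x ∈ ideal y}) ∪
      (algebraMap B (reesAlgebra (K.map φ)) '' ↑(J.map φ))
  let P' := Ideal.span g
  have hmapy : (ideal y).map (reesMap φ K) ≤ P' := by
    rw [Ideal.map_le_iff_le_comap]
    intro x hx
    rw [← sum_mono x, Ideal.mem_comap, map_sum]
    refine sum_mem fun n _ => Ideal.subset_span (Or.inl ⟨_, ⟨n, ?_⟩, rfl⟩)
    have hc : (mono K n ((x : A[X]).coeff n) (coeff_mem K n x) : A[X]).coeff n = (x : A[X]).coeff n := by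
      simp [mono]
    exact ⟨coeff_mem K n _, mono_congr _ _ rfl hc.symm, (mem_ideal_iff y x).mp hx n⟩
  have hJle : J.map (algebraMap A (reesAlgebra K)) ≤ ideal y := by
    rw [Ideal.map_le_iff_le_comap, ← base_eq]; exact hy
  have hJP : (J.map φ).map (algebraMap B (reesAlgebra (K.map φ))) ≤ P' :=
    Ideal.map_le_iff_le_comap.mpr fun j hj => Ideal.subset_span (Or.inr ⟨j, hj, rfl⟩)
  have hP' : ∀ z ∈ P', ∃ x ∈ ideal y, z - reesMap φ K x ∈ (J.map φ).map (algebraMap B (reesAlgebra (K.map φ))) := by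
    intro z hz
    refine Submodule.span_induction ?_ ?_ ?_ ?_ hz
    · rintro _ (⟨x, ⟨n, hn, -, hx⟩, rfl⟩ | ⟨j, hj, rfl⟩)
      · exact ⟨x, hx, by simp⟩
      · exact ⟨0, zero_mem _, by simpa using Ideal.mem_map_of_mem _ hj⟩
    · exact ⟨0, zero_mem _, by simp⟩
    · rintro u v - - ⟨x, hx, h⟩ ⟨x', hx', h'⟩
      exact ⟨x + x', add_mem hx hx', by rw [map_add, add_sub_add_comm]; exact add_mem h h'⟩
    · rintro r u - ⟨x, hx, h⟩
      obtain ⟨a, ha⟩ := exists_sub_special hlow hsurj hJK r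
      refine ⟨a * x, Ideal.mul_mem_left _ a hx, ?_⟩
      rw [smul_eq_mul, map_mul, show r * u - reesMap φ K a * reesMap φ K x =
        r * (u - reesMap φ K x) + (r - reesMap φ K a) * reesMap φ K x by ring]
      exact add_mem (Ideal.mul_mem_left _ r h) (Ideal.mul_mem_right _ _ ha)
  have hcomap : ∀ x, reesMap φ K x ∈ P' ↔ x ∈ ideal y := by
    refine fun x => ⟨fun hx => ?_, fun hx => hmapy (Ideal.mem_map_of_mem _ hx)⟩
    obtain ⟨x', hx', h⟩ := hP' _ hx
    rw [← map_sub] at h
    simpa using add_mem (hJle (mem_special_of_reesMap hlow hsurj hJK h)) hx'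
  have hprime : P'.IsPrime := by
    refine ⟨fun htop => (inferInstance : (ideal y).IsPrime).ne_top ((Ideal.eq_top_iff_one _).mpr
      ((hcomap 1).mp (htop ▸ Submodule.mem_top))), fun {u v} huv => ?_⟩
    obtain ⟨a, ha⟩ := exists_sub_special hlow hsurj hJK u
    obtain ⟨b, hb⟩ := exists_sub_special hlow hsurj hJK v
    have hab : reesMap φ K (a * b) ∈ P' := by
      rw [map_mul, show reesMap φ K a * reesMap φ K b =
        u * v - (u - reesMap φ K a) * v - reesMap φ K a * (v - reesMap φ K b) by ring]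
      exact sub_mem (sub_mem huv (Ideal.mul_mem_right _ _ (hJP ha))) (Ideal.mul_mem_left _ _ (hJP hb))
    rcases (inferInstance : (ideal y).IsPrime).mem_or_mem ((hcomap _).mp hab) with h | h
    · exact Or.inl (by simpa using add_mem (hJP ha) ((hcomap a).mpr h))
    · exact Or.inr (by simpa using add_mem (hJP hb) ((hcomap b).mpr h))
  have hhom : P'.IsHomogeneous (Rees.deg (reesAlgebra (K.map φ))) := by
    refine Ideal.homogeneous_span _ _ ?_
    rintro _ (⟨x, ⟨n, hn, hx, -⟩, rfl⟩ | ⟨j, hj, rfl⟩)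
    · refine ⟨n, ?_⟩
      rw [hx, reesMap_mono]
      exact mono_mem _ n _ _
    · exact ⟨0, by rw [algebraMap_eq_mono]; exact mono_mem _ 0 _ _⟩
  refine ⟨⟨⟨P', hhom⟩, hprime, fun hle => ?_⟩, ?_, ?_⟩
  · obtain ⟨a, ha, hay⟩ := not_forall_tt y
    refine hay ((hcomap _).mp ?_)
    have h2 : reesMap φ K (tt K a ha) = tt (K.map φ) (φ a) (Ideal.mem_map_of_mem φ ha) := reesMap_mono φ K 1 a _
    rw [h2]
    exact hle (HomogeneousIdeal.mem_irrelevant_of_mem _ one_pos (tt_mem _ _ _))
  · exact ext_ideal fun n x hx => hcomap _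
  · intro j hj
    rw [mem_base_iff]
    exact hJP (Ideal.mem_map_of_mem _ hj)

end Groth.Agent.GabRig
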