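import Groth.Agent.GabRig.Func
import Groth.Agent.GabRig.Compl
import Groth.Agent.ZarConn.ProperFT
import Mathlib

/-!
# Clopen subsets descend along completions of henselian pairs
-/

set_option autoImplicit false
set_option linter.style.haveILetI false

universe u

open CategoryTheory AlgebraicGeometry Polynomial TopologicalSpace

noncomputable section

namespace Groth.Agent.GabRig

open Groth.Agent.BlowUpExist (mono mono_mem tt tt_mem eq_mono_of_mem coeff_mem structMap)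

section
variable {R : Type u} [CommRing R] {K : Ideal R}

/-- The strict transform of the zero locus of a smaller ideal. -/
def Cset (K L : Ideal R) : Set (Pt K) := {y | ∀ a (ha : a ∈ K), a ∈ L → tt K a ha ∈ ideal y}

theorem isClosed_Cset (L : Ideal R) : IsClosed (Cset K L) := by
  have : Cset K L = ProjectiveSpectrum.zeroLocus (Rees.deg (reesAlgebra K))
      {x | ∃ a, ∃ ha : a ∈ K, a ∈ L ∧ tt K a ha = x} := by
    ext y
    exact ⟨fun h => by rintro _ ⟨a, ha, haL, rfl⟩; exact h a ha haL, fun h a ha haL => h ⟨a, ha, haL, rfl⟩⟩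
  rw [this]
  exact ProjectiveSpectrum.isClosed_zeroLocus _ _

variable {L₀ L₁ : Ideal R} (h : K = L₀ ⊔ L₁)

include h in
theorem not_mem_both (y : Pt K) (h₀ : y ∈ Cset K L₀) (h₁ : y ∈ Cset K L₁) : False := by
  obtain ⟨a, ha, hay⟩ := not_forall_tt y
  obtain ⟨b, hb, c, hc, hbc⟩ := Submodule.mem_sup.mp (h ▸ ha : a ∈ L₀ ⊔ L₁)
  have hbK : b ∈ K := h ▸ Ideal.mem_sup_left hb
  have hcK : c ∈ K := h ▸ Ideal.mem_sup_right hc
  refine hay ?_
  have : tt K a ha = tt K b hbK + tt K c hcK := by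
    refine Subtype.ext ?_
    show monomial 1 a = monomial 1 b + monomial 1 c
    rw [← map_add, hbc]
  rw [this]
  exact add_mem (h₀ b hbK hb) (h₁ c hcK hc)

theorem cover (hmul : L₀ * L₁ ≤ nilradical R) (y : Pt K) : y ∈ Cset K L₀ ∨ y ∈ Cset K L₁ := by
  by_contra hne
  simp only [not_or, Cset, Set.mem_setOf_eq, not_forall] at hne
  obtain ⟨⟨a, ha, haL, hay⟩, ⟨b, hb, hbL, hby⟩⟩ := hne
  obtain ⟨n, hn⟩ := hmul (Ideal.mul_mem_mul haL hbL)
  have h1 : (tt K a ha * tt K b hb) ^ n = 0 := by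
    refine Subtype.ext ?_
    show (monomial 1 a * monomial 1 b) ^ n = 0
    rw [monomial_mul_monomial, monomial_pow, hn, map_zero]
  have h2 : (tt K a ha * tt K b hb) ∈ ideal y :=
    (inferInstance : (ideal y).IsPrime).mem_of_pow_mem n (h1 ▸ zero_mem _)
  exact ((inferInstance : (ideal y).IsPrime).mem_or_mem h2).elim hay hby

theorem sect_mem_Cset {L : Ideal R} {𝔭 : PrimeSpectrum R} (hK : ¬ K ≤ 𝔭.asIdeal) (hL : L ≤ 𝔭.asIdeal) :
    sect K 𝔭 hK ∈ Cset K L := fun a ha haL => by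
  rw [mem_sect]
  intro n
  show (monomial 1 a).coeff n ∈ _
  rw [coeff_monomial]
  split_ifs
  · exact hL haL
  · exact zero_mem _

theorem le_of_sect_mem_Cset {L : Ideal R} (hLK : L ≤ K) {𝔭 : PrimeSpectrum R} (hK : ¬ K ≤ 𝔭.asIdeal)
    (hs : sect K 𝔭 hK ∈ Cset K L) : L ≤ 𝔭.asIdeal := fun a ha => by
  have := (mem_sect K hK _).mp (hs a (hLK ha) ha) 1
  simpa [tt, mono] using this

/-- Disjoint quasi-compact opens are cut out by ideals with nilpotent product. -/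
theorem exists_ideals {U V : Set (PrimeSpectrum R)} (hV : IsOpen V) (hVU : V ⊆ U) (hW : IsOpen (U \ V))
    (hUc : IsCompact U) :
    ∃ L₀ L₁ : Ideal R, L₀.FG ∧ L₁.FG ∧ L₀ * L₁ ≤ nilradical R ∧ (∀ x, x ∈ V ↔ ¬ L₀ ≤ x.asIdeal) ∧
      (∀ x, x ∈ U \ V ↔ ¬ L₁ ≤ x.asIdeal) := by
  have h1 : IsCompact V := by
    have : V = U ∩ (U \ V)ᶜ := by ext x; simp only [Set.mem_inter_iff, Set.mem_compl_iff, Set.mem_sdiff]; grind
    rw [this]; exact hUc.inter_right hW.isClosed_compl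
  have h2 : IsCompact (U \ V) := hUc.diff hV
  obtain ⟨L₀, f₀, e₀⟩ := PrimeSpectrum.isCompact_isOpen_iff_ideal.mp ⟨h1, hV⟩
  obtain ⟨L₁, f₁, e₁⟩ := PrimeSpectrum.isCompact_isOpen_iff_ideal.mp ⟨h2, hW⟩
  have m₀ : ∀ x, x ∈ V ↔ ¬ L₀ ≤ x.asIdeal := fun x => by
    rw [← e₀, Set.mem_compl_iff, PrimeSpectrum.mem_zeroLocus, SetLike.coe_subset_coe]
  have m₁ : ∀ x, x ∈ U \ V ↔ ¬ L₁ ≤ x.asIdeal := fun x => by
    rw [← e₁, Set.mem_compl_iff, PrimeSpectrum.mem_zeroLocus, SetLike.coe_subset_coe]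
  refine ⟨L₀, L₁, f₀, f₁, ?_, m₀, m₁⟩
  rw [nilradical_eq_sInf]
  refine le_sInf fun P hP => ?_
  by_contra hne
  have a : ¬ L₀ ≤ P := fun h => hne (Ideal.mul_le_left.trans h)
  have b : ¬ L₁ ≤ P := fun h => hne (Ideal.mul_le_right.trans h)
  exact ((m₁ ⟨P, hP⟩).mpr b).2 ((m₀ ⟨P, hP⟩).mpr a)

theorem sup_le_iff_notMem {U V : Set (PrimeSpectrum R)} (hVU : V ⊆ U)
    (m₀ : ∀ x, x ∈ V ↔ ¬ L₀ ≤ x.asIdeal) (m₁ : ∀ x, x ∈ U \ V ↔ ¬ L₁ ≤ x.asIdeal) (x : PrimeSpectrum R) :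
    x ∈ U ↔ ¬ L₀ ⊔ L₁ ≤ x.asIdeal := by
  rw [sup_le_iff, not_and_or, ← m₀, ← m₁]
  refine ⟨fun hx => ?_, fun hx => hx.elim (fun h => hVU h) fun h => h.1⟩
  by_cases hv : x ∈ V
  · exact Or.inl hv
  · exact Or.inr ⟨hx, hv⟩

theorem exists_pow_le {U : Set (PrimeSpectrum R)} {J : Ideal R} (hJ : J.FG) (hUJ : ∀ x, x ∉ U → J ≤ x.asIdeal)
    (hU : ∀ x, x ∈ U ↔ ¬ K ≤ x.asIdeal) : ∃ c, J ^ c ≤ K := by
  refine Ideal.exists_pow_le_of_le_radical_of_fg ?_ hJ
  rw [Ideal.radical_eq_sInf]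
  exact le_sInf fun P hP => hUJ ⟨P, hP.2⟩ fun h => (hU _).mp h hP.1

end

variable {A B : Type u} [CommRing A] [CommRing B] {φ : A →+* B} {J : Ideal A}
  (hJ : J.FG) (hlow : ∀ M, ((J ^ M).map φ).comap φ ≤ J ^ M)
  (hsurj : ∀ (M : ℕ) (b : B), ∃ a, b - φ a ∈ (J ^ M).map φ)

include hJ hlow hsurj in
/-- Injectivity. -/
theorem eq_empty (hjac : J ≤ Ideal.jacobson ⊥) {U V : Set (PrimeSpectrum A)} (hUc : IsCompact U)
    (hUJ : ∀ x, x ∉ U → J ≤ x.asIdeal) (hV : IsOpen V) (hVU : V ⊆ U) (hW : IsOpen (U \ V))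
    (hempty : PrimeSpectrum.comap φ ⁻¹' V = ∅) : V = ∅ := by
  obtain ⟨L₀, L₁, f₀, f₁, hmul, m₀, m₁⟩ := exists_ideals hV hVU hW hUc
  have hU := sup_le_iff_notMem hVU m₀ m₁
  obtain ⟨c, hc⟩ := exists_pow_le hJ hUJ hU
  refine Set.eq_empty_iff_forall_notMem.mpr fun x hx => ?_
  have hxK : ¬ L₀ ⊔ L₁ ≤ x.asIdeal := (hU x).mp (hVU hx)
  have hxL : L₁ ≤ x.asIdeal := by
    by_contra h
    exact ((m₁ x).mpr h).2 hx
  obtain ⟨y, hy, hyJ⟩ := exists_mem_le (Submodule.FG.sup f₀ f₁) hjac (isClosed_Cset (K := L₀ ⊔ L₁) L₁)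
    (sect_mem_Cset hxK hxL)
  refine not_mem_both rfl y (fun a ha haL => ?_) hy
  obtain ⟨z, hz, -⟩ := exists_pull_eq hlow hsurj hc y hyJ
  rw [← hz, mem_pull]
  have hnil : φ a ∈ nilradical B := by
    rw [nilradical_eq_sInf, Submodule.mem_sInf]
    intro Q hQ
    have hQV : PrimeSpectrum.comap φ ⟨Q, hQ⟩ ∉ V := fun h => by
      have h' : (⟨Q, hQ⟩ : PrimeSpectrum B) ∈ PrimeSpectrum.comap φ ⁻¹' V := h
      rw [hempty] at h'; exact h'
    rw [m₀, not_not] at hQV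
    exact hQV haL
  obtain ⟨n, hn⟩ := hnil
  have hk : reesMap φ (L₀ ⊔ L₁) (tt (L₀ ⊔ L₁) a ha) ^ n = 0 := by
    refine Subtype.ext ?_
    show ((monomial 1 a).map φ) ^ n = 0
    rw [Polynomial.map_monomial, monomial_pow, hn, map_zero]
  exact (inferInstance : (ideal z).IsPrime).mem_of_pow_mem n (hk ▸ zero_mem _)

include hlow hsurj in
theorem exists_lift_prime (x : PrimeSpectrum A) (hx : J ≤ x.asIdeal) :
    ∃ Q : PrimeSpectrum B, PrimeSpectrum.comap φ Q = x ∧ Q.asIdeal = x.asIdeal.map φ := by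
  have hc : (x.asIdeal.map φ).comap φ = x.asIdeal := comap_map hlow hsurj (M := 1) (by simpa using hx)
  have hP : (x.asIdeal.map φ).IsPrime := by
    refine ⟨fun h => x.isPrime.ne_top (by rw [← hc, h, Ideal.comap_top]), fun {u v} huv => ?_⟩
    obtain ⟨a, ha⟩ := hsurj 1 u
    obtain ⟨b, hb⟩ := hsurj 1 v
    have hle : (J ^ 1).map φ ≤ x.asIdeal.map φ := Ideal.map_mono (by simpa using hx)
    have hab : φ (a * b) ∈ x.asIdeal.map φ := by
      rw [map_mul, show φ a * φ b = u * v - (u - φ a) * v - φ a * (v - φ b) by ring]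
      exact sub_mem (sub_mem huv (Ideal.mul_mem_right _ _ (hle ha))) (Ideal.mul_mem_left _ _ (hle hb))
    have hab' : a * b ∈ x.asIdeal := by rw [← hc]; exact hab
    rcases x.isPrime.mem_or_mem hab' with h | h
    · exact Or.inl (by simpa using add_mem (hle ha) (Ideal.mem_map_of_mem φ h))
    · exact Or.inr (by simpa using add_mem (hle hb) (Ideal.mem_map_of_mem φ h))
  exact ⟨⟨_, hP⟩, PrimeSpectrum.ext hc, rfl⟩

section Image
variable {K : Ideal A} {c : ℕ} (hJK : J ^ c ≤ K)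

/-- The special points. -/
def special (K : Ideal A) (J : Ideal A) : Set (Pt K) := {y | J ≤ (structMap K y).asIdeal}

omit hJ hlow hsurj in
theorem pull_mem_special {z : Pt (K.map φ)} (hz : z ∈ special (K.map φ) (J.map φ)) :
    pull φ K z ∈ special K J := by
  show J ≤ (structMap K (pull φ K z)).asIdeal
  rw [structMap_pull]
  exact Ideal.map_le_iff_le_comap.mp hz

omit hJ hlow hsurj in
theorem special_le {z : Pt (K.map φ)} (hz : z ∈ special (K.map φ) (J.map φ)) :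
    (J.map φ).map (algebraMap B (reesAlgebra (K.map φ))) ≤ ideal z := by
  rw [Ideal.map_le_iff_le_comap, ← base_eq]; exact hz

include hlow hsurj hJK in
theorem pull_injOn : Set.InjOn (pull φ K) (special (K.map φ) (J.map φ)) := by
  intro z hz z' hz' h
  refine ext_ideal fun n b hb => ?_
  obtain ⟨x, hx⟩ := exists_sub_special hlow hsurj hJK (mono (K.map φ) n b hb)
  have key : ∀ w ∈ special (K.map φ) (J.map φ), mono (K.map φ) n b hb ∈ ideal w ↔ x ∈ ideal (pull φ K w) := by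
    intro w hw
    rw [mem_pull]
    have := special_le hw hx
    exact ⟨fun h => by simpa using sub_mem h this, fun h => by simpa using add_mem this h⟩
  rw [key z hz, key z' hz', h]

include hlow hsurj hJK in
theorem isClosed_image {s : Set (Pt (K.map φ))} (hs : IsClosed s) :
    IsClosed (pull φ K '' (s ∩ special (K.map φ) (J.map φ))) := by
  obtain ⟨t, rfl⟩ := (ProjectiveSpectrum.isClosed_iff_zeroLocus _ s).mp hs
  let t' : Set (reesAlgebra K) := {x | ∃ z ∈ t,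
    z - reesMap φ K x ∈ (J.map φ).map (algebraMap B (reesAlgebra (K.map φ)))}
  have heq : pull φ K '' (ProjectiveSpectrum.zeroLocus (Rees.deg (reesAlgebra (K.map φ))) t ∩
      special (K.map φ) (J.map φ)) = ProjectiveSpectrum.zeroLocus (Rees.deg (reesAlgebra K)) t' ∩ special K J := by
    ext y
    constructor
    · rintro ⟨w, ⟨hwt, hw⟩, rfl⟩
      refine ⟨?_, pull_mem_special hw⟩
      rintro x ⟨z, hz, hzx⟩
      have h1 : z ∈ ideal w := hwt hz
      have h2 : z - reesMap φ K x ∈ ideal w := special_le hw hzx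
      have h3 : reesMap φ K x ∈ ideal w := by simpa using sub_mem h1 h2
      exact h3
    · rintro ⟨hyt, hy⟩
      obtain ⟨w, hw, hwJ⟩ := exists_pull_eq hlow hsurj hJK y hy
      refine ⟨w, ⟨fun z hz => ?_, hwJ⟩, hw⟩
      obtain ⟨x, hx⟩ := exists_sub_special hlow hsurj hJK z
      have h1 : x ∈ ideal (pull φ K w) := by rw [hw]; exact hyt ⟨z, hz, hx⟩
      have h2 : z - reesMap φ K x ∈ ideal w := special_le hwJ hx
      have h3 : z ∈ ideal w := by simpa using add_mem h2 ((mem_pull φ K x).mp h1)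
      exact h3
  rw [heq]
  exact (ProjectiveSpectrum.isClosed_zeroLocus _ _).inter
    ((PrimeSpectrum.isClosed_zeroLocus (J : Set A)).preimage (structMap K).continuous)

end Image

include hJ hlow hsurj in
/-- Surjectivity. -/
theorem descend [HenselianRing A J] (hjac' : J.map φ ≤ Ideal.jacobson ⊥) {U : Set (PrimeSpectrum A)}
    (hUo : IsOpen U) (hUc : IsCompact U) (hUJ : ∀ x, x ∉ U → J ≤ x.asIdeal) {V' : Set (PrimeSpectrum B)}
    (hV : IsOpen V') (hVU : V' ⊆ PrimeSpectrum.comap φ ⁻¹' U) (hW : IsOpen (PrimeSpectrum.comap φ ⁻¹' U \ V')) :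
    ∃ V, IsOpen V ∧ V ⊆ U ∧ IsOpen (U \ V) ∧ PrimeSpectrum.comap φ ⁻¹' V = V' := by
  obtain ⟨K₀, hK₀, eK₀⟩ := PrimeSpectrum.isCompact_isOpen_iff_ideal.mp ⟨hUc, hUo⟩
  have hUBc : IsCompact (PrimeSpectrum.comap φ ⁻¹' U) :=
    (PrimeSpectrum.isCompact_isOpen_iff_ideal.mpr ⟨K₀.map φ, hK₀.map φ, by
      ext Q
      rw [← eK₀, Set.mem_preimage, Set.mem_compl_iff, Set.mem_compl_iff, PrimeSpectrum.mem_zeroLocus,
        PrimeSpectrum.mem_zeroLocus, SetLike.coe_subset_coe, SetLike.coe_subset_coe, Ideal.map_le_iff_le_comap]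
      rfl⟩).1
  obtain ⟨L₀, L₁, f₀, f₁, hmul, m₀, m₁⟩ := exists_ideals hV hVU hW hUBc
  have hUB := sup_le_iff_notMem hVU m₀ m₁
  obtain ⟨c, hc⟩ := exists_pow_le (J := J.map φ) (hJ.map φ) (fun Q hQ => Ideal.map_le_iff_le_comap.mpr (hUJ _ hQ)) hUB
  let K := (L₀ ⊔ L₁).comap φ
  have hJK : J ^ c ≤ K := by
    rw [← Ideal.map_le_iff_le_comap, Ideal.map_pow]; exact hc
  have hKφ : K.map φ = L₀ ⊔ L₁ := by
    refine le_antisymm Ideal.map_comap_le fun b hb => ?_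
    obtain ⟨a, ha⟩ := hsurj c b
    have hb' : (J ^ c).map φ ≤ L₀ ⊔ L₁ := by rw [Ideal.map_pow]; exact hc
    have haK : a ∈ K := by
      show φ a ∈ L₀ ⊔ L₁
      simpa using sub_mem hb (hb' ha)
    have h1 : (J ^ c).map φ ≤ K.map φ := Ideal.map_mono hJK
    simpa using add_mem (h1 ha) (Ideal.mem_map_of_mem φ haK)
  have hKfg : K.FG := by
    classical
    obtain ⟨s, hs⟩ := Submodule.FG.sup f₀ f₁
    choose a ha using hsurj c
    have hK' : K = Ideal.span (s.image a : Set A) ⊔ J ^ c := by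
      refine le_antisymm ?_ (sup_le (Ideal.span_le.mpr ?_) hJK)
      · have h2 : L₀ ⊔ L₁ ≤ (Ideal.span (s.image a : Set A) ⊔ J ^ c).map φ := by
          rw [← hs, Ideal.span_le]
          intro g hg
          have h3 : φ (a g) ∈ (Ideal.span (s.image a : Set A) ⊔ J ^ c).map φ :=
            Ideal.mem_map_of_mem φ (Ideal.mem_sup_left (Ideal.subset_span
              (Finset.mem_coe.mpr (Finset.mem_image_of_mem a hg))))
          simpa using add_mem (Ideal.map_mono le_sup_right (ha g)) h3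
        refine (Ideal.comap_mono h2).trans_eq ?_
        exact comap_map hlow hsurj le_sup_right
      · intro x hx
        obtain ⟨g, hg, rfl⟩ := Finset.mem_image.mp (Finset.mem_coe.mp hx)
        show φ (a g) ∈ L₀ ⊔ L₁
        have hgL : g ∈ L₀ ⊔ L₁ := hs ▸ Ideal.subset_span hg
        have h5 : (J ^ c).map φ ≤ L₀ ⊔ L₁ := by rw [Ideal.map_pow]; exact hc
        simpa using sub_mem hgL (h5 (ha g))
    rw [hK']
    exact Submodule.FG.sup (⟨_, rfl⟩ : (Ideal.span (s.image a : Set A)).FG) (Ideal.FG.pow (n := c) hJ)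
  -- U is the complement of the centre
  have hU : ∀ x, x ∈ U ↔ ¬ K ≤ x.asIdeal := by
    intro x
    by_cases hx : J ≤ x.asIdeal
    · obtain ⟨Q, hQ, hQ'⟩ := exists_lift_prime hlow hsurj x hx
      have h1 : Q ∈ PrimeSpectrum.comap φ ⁻¹' U ↔ x ∈ U := by rw [Set.mem_preimage, hQ]
      rw [← h1, hUB, ← hKφ, hQ']
      refine not_congr ⟨fun h => ?_, fun h => Ideal.map_mono h⟩
      calc K ≤ (K.map φ).comap φ := Ideal.le_comap_map
        _ ≤ (x.asIdeal.map φ).comap φ := Ideal.comap_mono h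
        _ = x.asIdeal := comap_map hlow hsurj (M := 1) (by simpa using hx)
    · refine ⟨fun _ h => hx ?_, fun _ => ?_⟩
      · intro j hj
        exact x.isPrime.mem_of_pow_mem c ((hJK.trans h) (Ideal.pow_mem_pow hj c))
      · by_contra h; exact hx (hUJ x h)
  let C₁ : Set (Pt K) := pull φ K '' (Cset (K.map φ) L₁ ∩ special (K.map φ) (J.map φ))
  let C₂ : Set (Pt K) := pull φ K '' (Cset (K.map φ) L₀ ∩ special (K.map φ) (J.map φ))
  have hdisj : Disjoint C₁ C₂ := by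
    rw [Set.disjoint_left]
    rintro _ ⟨z, ⟨hz, hzs⟩, rfl⟩ ⟨z', ⟨hz', hzs'⟩, h⟩
    have := pull_injOn hlow hsurj hJK hzs' hzs h
    subst this
    exact not_mem_both hKφ z' hz' hz
  haveI := BlowUpExist.isProper_structMap K hKfg
  obtain ⟨W, hWc, hW₁, hW₂⟩ := ZarConn.exists_clopen_extension_proper J (structMap K) C₁ C₂
    (isClosed_image hlow hsurj hJK (isClosed_Cset L₁)) (isClosed_image hlow hsurj hJK (isClosed_Cset L₀))
    hdisj (fun y => by
      constructor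
      · intro hy
        obtain ⟨z, hz, hzJ⟩ := exists_pull_eq hlow hsurj hJK y hy
        rcases cover hmul z with h | h
        · exact Or.inr ⟨z, ⟨h, hzJ⟩, hz⟩
        · exact Or.inl ⟨z, ⟨h, hzJ⟩, hz⟩
      · rintro (⟨z, ⟨-, hz⟩, rfl⟩ | ⟨z, ⟨-, hz⟩, rfl⟩) <;> exact pull_mem_special hz)
  have hcont := continuous_pull φ K
  have hWB : ∀ z : Pt (K.map φ), pull φ K z ∈ W ↔ z ∈ Cset (K.map φ) L₁ := by
    intro z
    constructor
    · intro hzW
      refine (cover hmul z).resolve_left fun hz => ?_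
      obtain ⟨w, ⟨hw, hwW⟩, hwJ⟩ := exists_mem_le (hKfg.map φ) hjac'
        ((isClosed_Cset L₀).inter (hWc.isClosed.preimage hcont)) ⟨hz, hzW⟩
      exact Set.disjoint_left.mp hW₂ ⟨w, ⟨hw, hwJ⟩, rfl⟩ hwW
    · intro hz
      by_contra hzW
      obtain ⟨w, ⟨hw, hwW⟩, hwJ⟩ := exists_mem_le (hKfg.map φ) hjac'
        ((isClosed_Cset L₁).inter (hWc.compl.isClosed.preimage hcont)) ⟨hz, hzW⟩
      exact hwW (hW₁ ⟨w, ⟨hw, hwJ⟩, rfl⟩)
  let s : {x : PrimeSpectrum A // ¬ K ≤ x.asIdeal} → Pt K := fun p => sect K p.1 p.2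
  have hopen : IsOpen {x : PrimeSpectrum A | ¬ K ≤ x.asIdeal} := by
    have : {x : PrimeSpectrum A | ¬ K ≤ x.asIdeal} = U := Set.ext fun x => (hU x).symm
    rw [this]; exact hUo
  let V : Set (PrimeSpectrum A) := Subtype.val '' (s ⁻¹' W)
  refine ⟨V, hopen.isOpenMap_subtype_val _ (hWc.isOpen.preimage (continuous_sect K)), ?_, ?_, ?_⟩
  · rintro _ ⟨⟨x, hx⟩, -, rfl⟩; exact (hU x).mpr hx
  · have : U \ V = Subtype.val '' (s ⁻¹' Wᶜ) := by
      ext x
      constructor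
      · rintro ⟨hxU, hxV⟩
        exact ⟨⟨x, (hU x).mp hxU⟩, fun h => hxV ⟨_, h, rfl⟩, rfl⟩
      · rintro ⟨⟨x, hx⟩, hxW, rfl⟩
        exact ⟨(hU x).mpr hx, fun ⟨⟨x', hx'⟩, h, he⟩ => hxW (by cases he; exact h)⟩
    rw [this]
    exact hopen.isOpenMap_subtype_val _ (hWc.compl.isOpen.preimage (continuous_sect K))
  · ext Q
    have hKQ : ∀ (hQ : ¬ K ≤ (PrimeSpectrum.comap φ Q).asIdeal),
        ∃ hQ' : ¬ K.map φ ≤ Q.asIdeal, pull φ K (sect (K.map φ) Q hQ') = sect K (PrimeSpectrum.comap φ Q) hQ := by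
      intro hQ
      have hQ' : ¬ K.map φ ≤ Q.asIdeal := fun h => hQ (Ideal.map_le_iff_le_comap.mp h)
      refine ⟨hQ', ?_⟩
      obtain ⟨k, hk, hkQ⟩ := Set.not_subset.mp hQ
      refine eq_of_base_eq hk ?_ ?_
      · rw [structMap_pull, structMap_sect]; exact hkQ
      · rw [structMap_pull, structMap_sect, structMap_sect]
    constructor
    · rintro ⟨⟨x, hx⟩, hxW, hxe⟩
      subst hxe
      obtain ⟨hQ', he⟩ := hKQ hx
      have h1 : sect (K.map φ) Q hQ' ∈ Cset (K.map φ) L₁ := (hWB _).mp (he ▸ hxW)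
      have h2 : L₁ ≤ Q.asIdeal := le_of_sect_mem_Cset (hKφ ▸ le_sup_right) hQ' h1
      have h3 : Q ∈ PrimeSpectrum.comap φ ⁻¹' U := (hU _).mpr hx
      by_contra h4
      exact (m₁ Q).mp ⟨h3, h4⟩ h2
    · intro hQ
      have hQU := hVU hQ
      obtain ⟨hQ', he⟩ := hKQ ((hU _).mp hQU)
      have h2 : L₁ ≤ Q.asIdeal := by
        by_contra h
        exact ((m₁ Q).mpr h).2 hQ
      exact ⟨⟨_, (hU _).mp hQU⟩, show sect K _ _ ∈ W from he ▸ (hWB _).mpr (sect_mem_Cset hQ' h2), rfl⟩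

end Groth.Agent.GabRig
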