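import Groth.Agent.BlowUpExist.Proper
import Mathlib

/-!
# Points of `Proj` of a Rees algebra
-/

set_option autoImplicit false
set_option linter.style.haveILetI false

universe u

open CategoryTheory AlgebraicGeometry Polynomial

noncomputable section

namespace Groth.Agent.GabRig

open Groth.Agent.BlowUpExist (mono mono_mem tt tt_mem eq_mono_of_mem coeff_mem structMap exists_chart)

open HomogeneousLocalization in
theorem toSpecZero_mem_iff {A σ : Type u} [CommRing A] [SetLike σ A] [AddSubgroupClass σ A] (𝒜 : ℕ → σ) [GradedRing 𝒜]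
    (y : Proj 𝒜) {b : A} {n : ℕ} (hn : 0 < n) (hb : b ∈ 𝒜 n) (hy : y ∈ Proj.basicOpen 𝒜 b) (a : 𝒜 0) :
    a ∈ (Proj.toSpecZero 𝒜 y).asIdeal ↔ (a : A) ∈ y.asHomogeneousIdeal := by
  have hy' : y ∈ (Proj.awayι 𝒜 b hb hn).opensRange := by rwa [Proj.opensRange_awayι]
  obtain ⟨q, rfl⟩ := hy'
  have hab : (a : A) * b ∈ 𝒜 n := by simpa using SetLike.mul_mem_graded a.2 hb
  have h1 : (a : A) ∈ (Proj.awayι 𝒜 b hb hn q).asHomogeneousIdeal ↔
      Proj.awayι 𝒜 b hb hn q ∉ Proj.basicOpen 𝒜 ((a : A) * b) := by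
    rw [Proj.basicOpen_mul, TopologicalSpace.Opens.mem_inf, Proj.mem_basicOpen, and_iff_left hy, not_not]
  rw [h1, ← Scheme.Hom.comp_apply, Proj.awayι_toSpecZero,
    show (Proj.awayι 𝒜 b hb hn q ∈ Proj.basicOpen 𝒜 ((a : A) * b)) =
      (q ∈ Proj.awayι 𝒜 b hb hn ⁻¹ᵁ Proj.basicOpen 𝒜 ((a : A) * b)) from rfl,
    Proj.awayι_preimage_basicOpen 𝒜 hb hn hab hn]
  change (fromZeroRingHom 𝒜 _ a) ∈ q.asIdeal ↔ ¬ (Away.isLocalizationElem hb hab ∉ q.asIdeal)
  rw [not_not, show Away.isLocalizationElem hb hab = (fromZeroRingHom 𝒜 _ a) ^ n from ?_]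
  · exact ⟨fun h => Ideal.pow_mem_of_mem _ h n hn, fun h => q.2.mem_of_pow_mem n h⟩
  · apply val_injective
    simp only [val_pow, Away.val_mk, fromZeroRingHom, RingHom.coe_mk, MonoidHom.coe_mk, OneHom.coe_mk,
      HomogeneousLocalization.val_mk, Localization.mk_pow, Localization.mk_eq_mk_iff, Localization.r_iff_exists]
    exact ⟨1, by simp [mul_pow]; ring⟩

variable {A : Type u} [CommRing A] (K : Ideal A)

/-- The blow-up as a set of points. -/
abbrev Pt : Type u := ↥(Proj (Rees.deg (reesAlgebra K)))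

variable {K}

/-- The prime ideal of a point. -/
def ideal (y : Pt K) : Ideal (reesAlgebra K) := y.asHomogeneousIdeal.toIdeal

instance (y : Pt K) : (ideal y).IsPrime := y.isPrime

theorem algebraMap_mul_mono (r : A) (n : ℕ) (c : A) (hc : c ∈ K ^ n) :
    algebraMap A (reesAlgebra K) r * mono K n c hc = mono K n (r * c) (Ideal.mul_mem_left _ r hc) :=
  Subtype.ext (C_mul_monomial)

theorem algebraMap_eq_mono (r : A) :
    algebraMap A (reesAlgebra K) r = mono K 0 r (by simp) := Subtype.ext rfl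

theorem mono_mul_mono (m n : ℕ) (b c : A) (hb : b ∈ K ^ m) (hc : c ∈ K ^ n) :
    mono K m b hb * mono K n c hc =
      mono K (m + n) (b * c) (by rw [pow_add]; exact Ideal.mul_mem_mul hb hc) :=
  Subtype.ext (monomial_mul_monomial m n b c)

theorem mono_congr {m n : ℕ} {b c : A} (hb : b ∈ K ^ m) (hc : c ∈ K ^ n) (h : m = n) (h' : b = c) :
    mono K m b hb = mono K n c hc := by subst h h'; rfl

theorem sum_mono (x : reesAlgebra K) :
    ∑ n ∈ (x : A[X]).support, mono K n ((x : A[X]).coeff n) (coeff_mem K n x) = x := by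
  refine Subtype.ext ?_
  rw [AddSubmonoidClass.coe_finsetSum]
  conv_rhs => rw [(x : A[X]).as_sum_support]
  rfl

theorem coeff_decompose (x : reesAlgebra K) (i : ℕ) :
    ((DirectSum.decompose (Rees.deg (reesAlgebra K)) x i : reesAlgebra K) : A[X]).coeff i =
      (x : A[X]).coeff i := by
  classical
  conv_rhs => rw [← DirectSum.sum_support_decompose (Rees.deg (reesAlgebra K)) x]
  rw [AddSubmonoidClass.coe_finsetSum, finsetSum_coeff, Finset.sum_eq_single i]
  · intro j _ hj
    exact (DirectSum.decompose (Rees.deg (reesAlgebra K)) x j).2 i (Ne.symm hj)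
  · intro hi
    simp [DFinsupp.notMem_support_iff.mp hi]

theorem decompose_eq_mono (x : reesAlgebra K) (i : ℕ) :
    (DirectSum.decompose (Rees.deg (reesAlgebra K)) x i : reesAlgebra K) =
      mono K i ((x : A[X]).coeff i) (coeff_mem K i x) :=
  (eq_mono_of_mem K (DirectSum.decompose (Rees.deg (reesAlgebra K)) x i).2).trans
    (mono_congr _ _ rfl (coeff_decompose x i))

theorem isHomogeneous_of_mono {P : Ideal (reesAlgebra K)}
    (h : ∀ x ∈ P, ∀ n, mono K n ((x : A[X]).coeff n) (coeff_mem K n x) ∈ P) :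
    P.IsHomogeneous (Rees.deg (reesAlgebra K)) := fun i x hx => by
  rw [decompose_eq_mono]; exact h x hx i

theorem mem_ideal_iff (y : Pt K) (x : reesAlgebra K) :
    x ∈ ideal y ↔ ∀ n, mono K n ((x : A[X]).coeff n) (coeff_mem K n x) ∈ ideal y := by
  refine ⟨fun hx n => ?_, fun h => ?_⟩
  · rw [← decompose_eq_mono]
    exact y.asHomogeneousIdeal.isHomogeneous n hx
  · rw [← sum_mono x]
    exact sum_mem fun n _ => h n

theorem mono_mem_of_forall_tt (P : Ideal (reesAlgebra K)) (h : ∀ a (ha : a ∈ K), tt K a ha ∈ P)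
    {n : ℕ} (hn : n ≠ 0) {c : A} (hc : c ∈ K ^ n) : mono K n c hc ∈ P := by
  obtain ⟨m, rfl⟩ := Nat.exists_eq_succ_of_ne_zero hn
  have hc' : c ∈ K * K ^ m := pow_succ' K m ▸ hc
  suffices H : ∃ hc : c ∈ K ^ (m + 1), mono K (m + 1) c hc ∈ P from H.2
  refine Submodule.mul_induction_on (C := fun x => ∃ hx : x ∈ K ^ (m + 1), mono K (m + 1) x hx ∈ P) hc'
    (fun a ha b hb => ?_) (fun b c hb hc => ?_)
  · refine ⟨(pow_succ' K m).symm ▸ Ideal.mul_mem_mul ha hb, ?_⟩
    have := Ideal.mul_mem_right (mono K m b hb) P (h a ha)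
    rw [tt, mono_mul_mono] at this
    convert this using 1
    exact mono_congr _ _ (add_comm m 1) rfl
  · obtain ⟨hb', hb''⟩ := hb
    obtain ⟨hc2, hc''⟩ := hc
    refine ⟨add_mem hb' hc2, ?_⟩
    have : mono K (m + 1) (b + c) (add_mem hb' hc2) = mono K (m + 1) b hb' + mono K (m + 1) c hc2 :=
      Subtype.ext (map_add _ _ _)
    rw [this]
    exact add_mem hb'' hc''

theorem not_forall_tt (y : Pt K) : ∃ a, ∃ ha : a ∈ K, tt K a ha ∉ ideal y := by
  obtain ⟨a, ha, hy⟩ := exists_chart K y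
  refine ⟨a, ha, ?_⟩
  have h1 : y ∈ Proj.basicOpen (Rees.deg (reesAlgebra K)) (tt K a ha) := by
    rw [← Proj.opensRange_awayι (Rees.deg (reesAlgebra K)) (tt K a ha) (tt_mem K a ha) one_pos]; exact hy
  exact (Proj.mem_basicOpen _ _ _).mp h1

/-- The image of a point in the base. -/
theorem mem_base_iff (y : Pt K) (a : A) :
    a ∈ (structMap K y).asIdeal ↔ algebraMap A (reesAlgebra K) a ∈ ideal y := by
  obtain ⟨b, hb, hy⟩ := not_forall_tt y
  exact toSpecZero_mem_iff (Rees.deg (reesAlgebra K)) y one_pos (tt_mem K b hb)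
    ((Proj.mem_basicOpen _ _ _).mpr hy) (algebraMap A (Rees.deg (reesAlgebra K) 0) a)

theorem base_eq (y : Pt K) :
    (structMap K y).asIdeal = (ideal y).comap (algebraMap A (reesAlgebra K)) :=
  Ideal.ext (mem_base_iff y)

theorem ext_ideal {y z : Pt K}
    (h : ∀ n c (hc : c ∈ K ^ n), mono K n c hc ∈ ideal y ↔ mono K n c hc ∈ ideal z) : y = z := by
  refine ProjectiveSpectrum.ext (HomogeneousIdeal.toIdeal_injective (Ideal.ext fun x => ?_))
  show x ∈ ideal y ↔ x ∈ ideal z
  rw [mem_ideal_iff, mem_ideal_iff]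
  exact forall_congr' fun n => h n _ _

/-- Outside the centre a point is determined by its image. -/
theorem mono_mem_iff (y : Pt K) {k : A} (hk : k ∈ K) (hky : k ∉ (structMap K y).asIdeal)
    (n : ℕ) (c : A) (hc : c ∈ K ^ n) : mono K n c hc ∈ ideal y ↔ c ∈ (structMap K y).asIdeal := by
  have hky' : algebraMap A (reesAlgebra K) k ∉ ideal y := fun h => hky ((mem_base_iff y k).mpr h)
  have htt : tt K k hk ∉ ideal y := by
    intro h
    obtain ⟨a, ha, hay⟩ := not_forall_tt y
    refine hay (((inferInstance : (ideal y).IsPrime).mem_or_mem ?_).resolve_left hky')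
    rw [tt, algebraMap_mul_mono, mono_congr (c := a * k) _ (Ideal.mul_mem_right k (K ^ 1) (by simpa using ha)) rfl (mul_comm k a),
      ← algebraMap_mul_mono a 1 k (by simpa using hk)]
    exact Ideal.mul_mem_left _ _ h
  have key : mono K n c hc * algebraMap A (reesAlgebra K) (k ^ n) =
      tt K k hk ^ n * algebraMap A (reesAlgebra K) c := by
    rw [BlowUpExist.tt_pow, mul_comm, algebraMap_mul_mono, mul_comm (mono K n _ _), algebraMap_mul_mono]
    exact mono_congr _ _ rfl (mul_comm _ _)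
  rw [mem_base_iff]
  constructor
  · intro h
    have := key ▸ Ideal.mul_mem_right (algebraMap A (reesAlgebra K) (k ^ n)) _ h
    exact ((inferInstance : (ideal y).IsPrime).mem_or_mem this).resolve_left
      fun h' => htt ((inferInstance : (ideal y).IsPrime).mem_of_pow_mem n h')
  · intro h
    have : mono K n c hc * algebraMap A (reesAlgebra K) (k ^ n) ∈ ideal y := by
      rw [key]; exact Ideal.mul_mem_left _ _ h
    refine ((inferInstance : (ideal y).IsPrime).mem_or_mem this).resolve_right fun h' => hky' ?_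
    rw [map_pow] at h'
    exact (inferInstance : (ideal y).IsPrime).mem_of_pow_mem n h'

theorem eq_of_base_eq {y z : Pt K} {k : A} (hk : k ∈ K) (hky : k ∉ (structMap K y).asIdeal)
    (h : structMap K y = structMap K z) : y = z :=
  ext_ideal fun n c hc => by
    rw [mono_mem_iff y hk hky, mono_mem_iff z hk (h ▸ hky), h]

variable (K)

/-- The point over a point outside the centre. -/
def sect (𝔭 : PrimeSpectrum A) (h : ¬ K ≤ 𝔭.asIdeal) : Pt K where
  asHomogeneousIdeal :=
    { toSubmodule := RingHom.ker ((Polynomial.mapRingHom (Ideal.Quotient.mk 𝔭.asIdeal)).comp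
        (reesAlgebra K).val.toRingHom)
      is_homogeneous' := isHomogeneous_of_mono fun x hx n => by
        simp only [RingHom.mem_ker, RingHom.comp_apply, coe_mapRingHom] at hx ⊢
        show (monomial n ((x : A[X]).coeff n)).map (Ideal.Quotient.mk 𝔭.asIdeal) = 0
        have := congrArg (fun q => q.coeff n) hx
        rw [Polynomial.map_monomial, monomial_eq_zero_iff]
        simpa [coeff_map] using this }
  isPrime := RingHom.ker_isPrime _
  not_irrelevant_le hle := by
    obtain ⟨k, hk, hkp⟩ := Set.not_subset.mp h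
    have h1 := hle ((HomogeneousIdeal.mem_irrelevant_of_mem (Rees.deg (reesAlgebra K)) (i := 1) one_pos (tt_mem K k hk)))
    simp only [HomogeneousIdeal.mem_iff, RingHom.mem_ker, RingHom.comp_apply, coe_mapRingHom] at h1
    have h2 : (monomial 1 k).map (Ideal.Quotient.mk 𝔭.asIdeal) = 0 := h1
    rw [Polynomial.map_monomial, monomial_eq_zero_iff, Ideal.Quotient.eq_zero_iff_mem] at h2
    exact hkp h2

theorem mem_sect {𝔭 : PrimeSpectrum A} (h : ¬ K ≤ 𝔭.asIdeal) (x : reesAlgebra K) :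
    x ∈ ideal (sect K 𝔭 h) ↔ ∀ n, (x : A[X]).coeff n ∈ 𝔭.asIdeal := by
  show (x : A[X]).map (Ideal.Quotient.mk 𝔭.asIdeal) = 0 ↔ _
  rw [Polynomial.ext_iff]
  simp [coeff_map, Ideal.Quotient.eq_zero_iff_mem]

theorem structMap_sect {𝔭 : PrimeSpectrum A} (h : ¬ K ≤ 𝔭.asIdeal) : structMap K (sect K 𝔭 h) = 𝔭 := by
  refine PrimeSpectrum.ext (Ideal.ext fun a => ?_)
  rw [mem_base_iff, mem_sect]
  refine ⟨fun h' => by simpa using h' 0, fun ha n => ?_⟩
  show (C a).coeff n ∈ _
  rw [coeff_C]; split_ifs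
  · exact ha
  · exact zero_mem _

theorem continuous_sect :
    Continuous fun p : {𝔭 : PrimeSpectrum A // ¬ K ≤ 𝔭.asIdeal} => sect K p.1 p.2 := by
  refine continuous_iff_isClosed.mpr fun s hs => ?_
  obtain ⟨t, rfl⟩ := (ProjectiveSpectrum.isClosed_iff_zeroLocus _ s).mp hs
  refine isClosed_induced_iff.mpr ⟨PrimeSpectrum.zeroLocus (⋃ x ∈ t, Set.range (x : A[X]).coeff),
    PrimeSpectrum.isClosed_zeroLocus _, ?_⟩
  ext ⟨p, hp⟩
  simp only [Set.mem_preimage, PrimeSpectrum.mem_zeroLocus, Set.iUnion_subset_iff, Set.range_subset_iff]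
  exact ⟨fun h x hx => (mem_sect K hp x).mpr (h x hx), fun h x hx => (mem_sect K hp x).mp (h hx)⟩

variable {K}

/-- A non-empty closed set of points meets the fibres over an ideal in the Jacobson radical. -/
theorem exists_mem_le (hK : K.FG) {J : Ideal A} (hJ : J ≤ Ideal.jacobson ⊥) {s : Set (Pt K)}
    (hs : IsClosed s) {y : Pt K} (hy : y ∈ s) : ∃ z ∈ s, J ≤ (structMap K z).asIdeal := by
  haveI := BlowUpExist.isProper_structMap K hK
  have hcl : IsClosed ((structMap K) '' s) := (structMap K).isClosedMap _ hs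
  obtain ⟨m, hm, hle⟩ := (structMap K y).asIdeal.exists_le_maximal (structMap K y).isPrime.ne_top
  haveI := hm
  have hmem : (⟨m, hm.isPrime⟩ : PrimeSpectrum A) ∈ (structMap K) '' s :=
    ((PrimeSpectrum.le_iff_specializes (structMap K y) ⟨m, hm.isPrime⟩).mp hle).mem_closed hcl ⟨y, hy, rfl⟩
  obtain ⟨z, hz, hzm⟩ := hmem
  exact ⟨z, hz, by rw [hzm]; exact hJ.trans (sInf_le ⟨bot_le, hm⟩)⟩

end Groth.Agent.GabRig
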